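import Cfsg.Agent.SignalizersComponents.PConstrained
import Cfsg.Agent.SignalizersComponents.EvenComponent
import Cfsg.Agent.PLocal.PConstrained
import Cfsg.Agent.OddTab.Long
import Cfsg.Agent.OddTab.D4Short
import Cfsg.Agent.NotResT.Comp
import Cfsg.Agent.NotResT.JOne
import Cfsg.Agent.CTwoTab.Good
import Cfsg.Agent.CTwoTab.Bal
import Cfsg.Agent.S1069
import Cfsg.Agent.S1152
import Cfsg.Agent.S1157
import Cfsg.Agent.S0205
import Cfsg.Agent.KFacts.ON.Qs
import Cfsg.Agent.KFacts.ON.Struct
import Cfsg.Agent.UGT.EndJ1.Data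
import Cfsg.Agent.CoThreeStd.MTwelveCent
import Cfsg.Agent.Walter.StepAll
import Cfsg.Agent.EvenType.CharTwoCent
import Cfsg.Agent.OddHalf.D3.Inst

/-!
# S2206: groups with 2-constrained involution centralizers

* `AllC G` : the centralizers of the involutions of `G` are 2-constrained;
* `not_comp`, `not_lpExists` : then they have no component, and none modulo the core;
* rows: `G₂(q)` with `q > 3` odd, `³D₄(q)` with `q` odd, the Ree groups, `J₁`, `M₁₂`, `O'N` do not have the property.
-/

set_option autoImplicit false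

namespace Cfsg.Agent.H90.TwoConstr

open Subgroup Cfsg
open Cfsg.Agent.SevenCases Cfsg.Agent.SigTab Cfsg.Agent.SignalizersComponents

universe u v

/-- the centralizers of the involutions are 2-constrained -/
def AllC (G : Type u) [Group G] : Prop :=
  ∀ x : G, orderOf x = 2 → IsPConstrained 2 ↥(centralizer ({x} : Set G))

theorem fact2 : Fact (Nat.Prime 2) := ⟨Nat.prime_two⟩

/-- 2-constraint of the 2-local subgroups gives `AllC` -/
theorem allC_of_local {G : Type u} [Group G]
    (h : ∀ T : Subgroup G, IsPGroup 2 ↥T → T ≠ ⊥ → IsPConstrained 2 ↥(normalizer (T : Set G))) : AllC G := by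
  intro t ht
  have ht2 : t * t = 1 := by rw [← pow_two, ← ht, pow_orderOf_eq_one]
  have ht1 : t ≠ 1 := by
    rintro rfl
    simp at ht
  have hP : IsPGroup 2 ↥(zpowers t) := by
    rintro ⟨x, hx⟩
    refine ⟨1, Subtype.ext ?_⟩
    show x ^ (2 ^ 1) = 1
    rcases EvenType.CharTwoCent.mem_zpowers_cases ht2 hx with rfl | rfl
    · simp
    · rw [pow_one, pow_two, ht2]
  have h := h (zpowers t) hP (fun h => ht1 (zpowers_eq_bot.mp h))
  rwa [EvenType.CharTwoCent.normalizer_zpowers_eq ht2] at h

section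

variable {G : Type u} [Group G] [Finite G]

theorem not_lpExists (h : AllC G) (P : ∀ (K : Type u) [Group K], Prop) : ¬ LpExists 2 G P := by
  rintro ⟨x, hx, K, hK, -⟩
  have := fact2
  have h1 := (PConstrained.isPConstrained_iff_pLayer_eq_bot 2).1 (h x hx)
  rw [PConstrained.pLayer_eq_bot_iff, ComponentExists.layer_eq_bot_iff] at h1
  exact h1 K hK

theorem not_comp (h : AllC G) {x : G} (hx : orderOf x = 2) (K : Subgroup G) :
    ¬ IsComponentOf K (centralizer ({x} : Set G)) := fun hK => by
  have := fact2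
  have hFT : OddHalf.D3.FT G := fun H hH => S0205.result hH
  have h2 := EvenComponent.isPComponent_of_isComponent hK.2 (hFT.even' hK.2.2)
  have h1 := (PConstrained.isPConstrained_iff_pLayer_eq_bot 2).1 (h x hx)
  have h3 : K.subgroupOf (centralizer ({x} : Set G)) ≤ pLayer 2 ↥(centralizer ({x} : Set G)) := le_sSup h2
  rw [h1, le_bot_iff] at h3
  have h4 := hK.2
  rw [h3] at h4
  exact Components.quasisimple_not_isSolvable h4.2 inferInstance

end

theorem AllC.congr {X : Type u} {Y : Type v} [Group X] [Group Y] [Finite X] (e : X ≃* Y) (h : AllC X) : AllC Y := by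
  have : Finite Y := Finite.of_equiv X e.toEquiv
  have := fact2
  intro y hy
  have h1 := h (e.symm y) (by rw [MulEquiv.orderOf_eq, hy])
  have e1 : ↥(centralizer ({e.symm y} : Set X)) ≃* ↥(centralizer ({y} : Set Y)) := by
    refine (e.subgroupMap (centralizer ({e.symm y} : Set X))).trans (MulEquiv.subgroupCongr ?_)
    ext g
    constructor
    · rintro ⟨x, hx, rfl⟩
      have hx' := mem_centralizer_singleton_iff.1 hx
      rw [mem_centralizer_singleton_iff]
      change e x * y = y * e x
      rw [← e.apply_symm_apply y, ← map_mul, hx', map_mul]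
    · intro hg
      have hg' := mem_centralizer_singleton_iff.1 hg
      refine ⟨e.symm g, mem_centralizer_singleton_iff.2 (e.injective ?_), e.apply_symm_apply g⟩
      rw [map_mul, map_mul, e.apply_symm_apply, e.apply_symm_apply, hg']
  exact (PLocal.PConstrained.isPConstrained_congr e1).1 h1

/-- the groups of type `P` do not have the property `AllC` -/
def NotC (P : ∀ (X : Type) [Group X], Prop) : Prop :=
  ∀ (G : Type) [Group G] [Finite G], P G → ¬ AllC G

theorem BTwo.notC {P : ∀ (X : Type) [Group X], Prop} (h : BTwo.{0} P) : NotC P :=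
  fun G _ _ hG hR => not_lpExists hR _ (h G hG)

theorem g2 : NotC (GTwoOdd (fun q => 3 < q)) := BTwo.notC OddTab.Rows.g2

theorem d4 : NotC TwDFourOdd := BTwo.notC OddTab.Rows.d4

theorem notC_of_iso {X : Type} [Group X] [Finite X] (h : ¬ AllC X) {G : Type} [Group G] [Finite G] (e : G ≃* X) :
    ¬ AllC G := fun hG => h (hG.congr e)

/-- a quasisimple normal subgroup of an involution centralizer -/
theorem not_allC_of_norm {G : Type u} [Group G] [Finite G] {x : G} (hx : orderOf x = 2) {N : Subgroup G}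
    (hN : IsQuasisimple ↥N) (hle : N ≤ centralizer ({x} : Set G))
    (hc : ∀ g ∈ centralizer ({x} : Set G), ∀ n ∈ N, g * n * g⁻¹ ∈ N) : ¬ AllC G :=
  fun h => not_comp h hx N (OddTab.isComponentOf_of_normalized hle hN hc)

/-! ### the Ree groups -/

theorem ree : NotC (fun X _ => Lie.IsoRee X) := by
  rintro G _ _ ⟨F, _, _, m, hm, hF, ⟨e⟩⟩
  have h27 : 3 ^ 3 ≤ 3 ^ (2 * m + 1) := Nat.pow_le_pow_right (by norm_num) (by omega)
  have hfin : Finite ↥(Cfsg.Lie.twistedG2 F (3 ^ m)) := by
    apply Nat.finite_of_card_ne_zero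
    rw [Cfsg.Agent.S1069.result hF]
    have h1 : 3 ^ (2 * m + 1) - 1 ≠ 0 := by omega
    positivity
  refine notC_of_iso ?_ e
  obtain ⟨a, haH, ha1, ha2⟩ := Cfsg.Agent.S1157.exists_involution hF
  obtain ⟨⟨e⟩, -⟩ := Cfsg.Agent.S1152.result hF a haH ha1 ha2
  have h3F : 3 < Fintype.card F := by omega
  have hs := TwoFusion.SLTwoFacts.isSimpleGroup_psl (F := F) h3F
  have hna := GTwoRows.not_comm_psl h3F
  have hx : orderOf a = 2 := orderOf_eq_prime (by rw [pow_two]; exact ha2) ha1
  obtain ⟨K, hK, -⟩ := NotResT.Comp.exists_comp_prod (CTwoTab.isQuasisimple_of_simple hna) e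
  exact fun h => not_comp h hx K hK

/-! ### `O'N` -/

section ON

open Cfsg.Agent.KFacts.ON.Struct
open Cfsg.Agent.ONType.TupK (K0)

theorem on : NotC (fun X _ => Spor.IsoON X) := by
  rintro G _ _ ⟨e⟩
  have := KFacts.ON.Cent.finite_ON
  refine notC_of_iso ?_ e
  have hx : orderOf (Cfsg.Agent.SporadicB.ON45Word.on .f) = 2 := orderOf_eq_prime (by rw [pow_two]; exact ff) f_ne_one
  have hK : ∀ g, g ∈ centralizer ({Cfsg.Agent.SporadicB.ON45Word.on .f} : Set _) ↔ g ∈ K0 := fun g => by
    rw [mem_centralizer_singleton_iff, mem_K0]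
  refine not_allC_of_norm hx (N := J) KFacts.ON.Qs.qs (fun g hg => (hK g).2 (J_le hg)) ?_
  intro g hg y hy
  exact J_normal ((hK g).1 hg) hy

end ON

/-! ### `J₁` -/

section J1

theorem j1 (hstep : Walter.Main.Step.{0}) : NotC (fun X _ => Spor.IsoJ1 X) := by
  rintro G _ _ ⟨e0⟩
  have hfin := NotResT.JOne.finite
  refine notC_of_iso ?_ e0
  obtain ⟨D⟩ := UGT.EndJ1.Data.exists_dat
  obtain ⟨-, F, _, _, hmod, hq, hc⟩ := NotResT.JOne.isJR hstep
  have ht : orderOf D.t = 2 := orderOf_eq_prime (by rw [pow_two]; exact D.tt) D.t1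
  obtain ⟨e⟩ := hc D.t ht
  have hodd : Odd (Fintype.card F) := by rw [Nat.odd_iff]; omega
  have h3 := ClassicalGeometry.PSL2Basic.card_PSL2_odd F hodd
  have h4 : Nat.card ↥(centralizer ({D.t} : Set Spor.J1)) = 2 * Nat.card (Matrix.ProjectiveSpecialLinearGroup (Fin 2) F) := by
    rw [Nat.card_congr e.toEquiv, Nat.card_prod]
    congr 1
    rw [Nat.card_congr (Multiplicative.toAdd (α := ZMod 2)), Nat.card_zmod]
  rw [D.card_C] at h4
  have h5 : Fintype.card F * (Fintype.card F ^ 2 - 1) = 120 := by rw [← h3]; omega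
  have h3F : 3 < Fintype.card F := by
    by_contra hne
    have h7 : Fintype.card F ≤ 3 := by omega
    have h8 : Fintype.card F * (Fintype.card F ^ 2 - 1) ≤ 3 * (3 ^ 2 - 1) :=
      Nat.mul_le_mul h7 (Nat.sub_le_sub_right (Nat.pow_le_pow_left h7 2) 1)
    omega
  have hs := TwoFusion.SLTwoFacts.isSimpleGroup_psl (F := F) h3F
  obtain ⟨K, hK, -⟩ := NotResT.Comp.exists_comp_prod
    (CTwoTab.isQuasisimple_of_simple (GTwoRows.not_comm_psl h3F)) e
  exact fun h => not_comp h ht K hK

end J1

/-! ### `M₁₂` -/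

section M12

open Cfsg.Agent.CoThreeStd.MTwelve

/-- `A₅` in the centralizer of the involution `y` -/
noncomputable def NN : Subgroup H := (alternatingGroup (Fin 5)).map w

theorem m12_model : ¬ AllC H := by
  have : Finite H := inferInstance
  have hy : orderOf y = 2 := orderOf_eq_prime (by rw [pow_two]; exact y_sq) y_ne_one
  have hs : IsSimpleGroup (alternatingGroup (Fin 5)) := inferInstance
  have hna : ¬ IsMulCommutative (alternatingGroup (Fin 5)) := by
    intro h
    have h1 : center (alternatingGroup (Fin 5)) = ⊤ := by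
      rw [eq_top_iff]
      intro a _
      exact mem_center_iff.2 fun b => h.is_comm.comm b a
    rw [alternatingGroup.center_eq_bot (by rw [Nat.card_fin]; omega)] at h1
    exact bot_ne_top h1
  have hq := CTwoTab.isQuasisimple_of_simple hna
  have e : ↥(alternatingGroup (Fin 5)) ≃* ↥NN := (alternatingGroup (Fin 5)).equivMapOfInjective w w_injective
  have hNN : IsQuasisimple ↥NN := Components.isQuasisimple_of_mulEquiv e hq
  refine not_allC_of_norm hy hNN ?_ ?_
  · rintro _ ⟨σ, -, rfl⟩
    rw [mem_centralizer_singleton_iff]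
    exact (y_comm σ).symm
  · intro g hg n hn
    obtain ⟨τ, hτ, rfl⟩ := hn
    have hg' := mem_centralizer_singleton_iff.1 hg
    have hconj : ∀ σ : Equiv.Perm (Fin 5), w σ * w τ * (w σ)⁻¹ ∈ NN := by
      intro σ
      refine ⟨σ * τ * σ⁻¹, ?_, by rw [map_mul, map_mul, map_inv]⟩
      exact (alternatingGroup.normal (α := Fin 5)).conj_mem τ hτ σ
    obtain ⟨σ, h | h⟩ := cent_y g hg'
    · rw [h]
      exact hconj σ
    · rw [h]
      have h1 : y * w σ * w τ * (y * w σ)⁻¹ = w σ * w τ * (w σ)⁻¹ := by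
        have h2 := y_comm (σ * τ * σ⁻¹)
        rw [map_mul, map_mul, map_inv] at h2
        calc y * w σ * w τ * (y * w σ)⁻¹ = (y * (w σ * w τ * (w σ)⁻¹)) * y⁻¹ := by group
          _ = w σ * w τ * (w σ)⁻¹ := by rw [h2]; group
      rw [h1]
      exact hconj σ

theorem m12 : NotC (fun X _ => Spor.IsoM12 X) := by
  rintro G _ _ ⟨e⟩
  exact notC_of_iso m12_model e

end M12

end Cfsg.Agent.H90.TwoConstr
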